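import Cfsg.Agent.H538.Ore.Small
import Cfsg.Agent.H130.War.Base
import Cfsg.Agent.S1163
import Cfsg.Agent.S1069

/-!
# The word `x ^ k * y ^ l` on `Sz(q)` and `²G₂(q)` (S2453, L8; helper874)
-/

set_option autoImplicit false

namespace Cfsg.Agent.H874.War

open Cfsg.Agent.H130.War Cfsg.Agent.H134.War

universe u

/-- from a class covering the group -/
theorem SS.of_cover {S : Type*} [Group S] {p e : ℕ} {t : S} (ht : (orderOf t).Coprime p)
    (h : ∀ g : S, g ≠ 1 → ∃ u v : S, g = (u * t ^ e * u⁻¹) * (v * t ^ e * v⁻¹)) : SS p e S := by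
  intro g
  by_cases hg : g = 1
  · exact ⟨t, t⁻¹, by rw [hg, inv_pow, mul_inv_cancel], ht, by rwa [orderOf_inv]⟩
  · obtain ⟨u, v, huv⟩ := h g hg
    refine ⟨u * t * u⁻¹, v * t * v⁻¹, ?_, ?_, ?_⟩
    · rw [huv, conj_pow, conj_pow]
    · have : orderOf (u * t * u⁻¹) = orderOf t := by
        have := orderOf_injective (MulAut.conj u).toMonoidHom (MulAut.conj u).injective t
        simpa using this
      rwa [this]
    · have : orderOf (v * t * v⁻¹) = orderOf t := by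
        have := orderOf_injective (MulAut.conj v).toMonoidHom (MulAut.conj v).injective t
        simpa using this
      rwa [this]

/-- the numbers: `q ^ c ≥ m ^ (8 m²)`, `3 c < 8 m²` give `m² + 1 < q` -/
theorem num {m q c : ℕ} (hm : 2 ≤ m) (hc : 3 * c < 8 * m ^ 2) (h : m ^ (8 * m ^ 2) ≤ q ^ c) : m ^ 2 + 1 < q := by
  by_contra hcon
  push Not at hcon
  have h1 : m ^ 2 + 1 ≤ m ^ 3 := by nlinarith [Nat.pow_le_pow_left hm 2]
  have h2 : q ^ c ≤ (m ^ 3) ^ c := Nat.pow_le_pow_left (hcon.trans h1) c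
  rw [← pow_mul] at h2
  have h3 : m ^ (3 * c) < m ^ (8 * m ^ 2) := Nat.pow_lt_pow_right (by omega) hc
  omega

theorem orderOf_pow_gt {S : Type*} [Group S] {t : S} {N e : ℕ} (ht : orderOf t = N) (he : 0 < e) (h : 2 * e < N) :
    2 < orderOf (t ^ e) := by
  rw [orderOf_pow' t he.ne', ht]
  have h1 : N.gcd e ≤ e := Nat.gcd_le_right _ he
  have h2 : 0 < N.gcd e := Nat.gcd_pos_of_pos_right _ he
  have h3 : N.gcd e * (N / N.gcd e) = N := Nat.mul_div_cancel' (Nat.gcd_dvd_left _ _)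
  by_contra hcon
  push Not at hcon
  have : N.gcd e * (N / N.gcd e) ≤ e * 2 := Nat.mul_le_mul h1 hcon
  omega

/-- Suzuki groups -/
theorem ss_sz {F : Type*} [Field F] [Fintype F] (m : ℕ) (hm : 1 ≤ m) (hF : Fintype.card F = 2 ^ (2 * m + 1)) {e : ℕ}
    (he0 : 0 < e) (he : 2 * e < 2 ^ (2 * m + 1) - 1) : SS 2 e ↥(Cfsg.Lie.Sz F (2 ^ (m + 1))) := by
  have H := Cfsg.Agent.LieRecognition.SzMatrix.good hF
  obtain ⟨g, hg⟩ := IsCyclic.exists_generator (α := Fˣ)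
  have ho := orderOf_eq_card_of_forall_mem_zpowers hg
  rw [Nat.card_units, Nat.card_eq_fintype_card, hF] at ho
  have hinj : Function.Injective (MonoidHom.mk' H.d (fun a b => (H.d_mul a b).symm)) := fun a b hab => H.d_inj hab
  have ho' : orderOf (H.d g) = 2 ^ (2 * m + 1) - 1 := (orderOf_injective _ hinj g).trans ho
  refine SS.of_cover (t := H.d g) ?_ fun x hx => Cfsg.Agent.S2457.result m hm hF _ (orderOf_pow_gt ho' he0 he) x hx
  rw [ho']
  refine Nat.Coprime.symm ((Nat.Prime.coprime_iff_not_dvd Nat.prime_two).2 ?_)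
  have : 2 ^ (2 * m + 1) = 2 * 2 ^ (2 * m) := by ring
  have := Nat.one_le_two_pow (n := 2 * m)
  omega

/-- small Ree groups -/
theorem ss_ree {K : Type*} [Field K] [Fintype K] (m : ℕ) (hm : 1 ≤ m) (hK : Fintype.card K = 3 ^ (2 * m + 1)) {e : ℕ}
    (he0 : 0 < e) (he : 2 * e < 3 ^ (2 * m + 1) - 1) : SS 3 e ↥(Cfsg.Lie.twistedG2 K (3 ^ m)) := by
  have D := Cfsg.Agent.LieRecognition.ReeFinal.data hK
  obtain ⟨g, hg⟩ := IsCyclic.exists_generator (α := Kˣ)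
  have ho := orderOf_eq_card_of_forall_mem_zpowers hg
  rw [Nat.card_units, Nat.card_eq_fintype_card, hK] at ho
  let φ := MonoidHom.mk' (Cfsg.Agent.LieRecognition.ReeData.h hK) D.h_mul
  have hinj : Function.Injective φ := fun a b hab => Cfsg.Agent.LieRecognition.ReeData.h_injective hK hab
  have ho' : orderOf (Cfsg.Agent.LieRecognition.ReeData.h hK g) = 3 ^ (2 * m + 1) - 1 :=
    (orderOf_injective φ hinj g).trans ho
  have h3 : ¬ 3 ∣ 3 ^ (2 * m + 1) - 1 := by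
    have : 3 ^ (2 * m + 1) = 3 * 3 ^ (2 * m) := by ring
    have := Nat.one_le_pow (2 * m) 3 (by norm_num)
    omega
  refine SS.of_cover (t := Cfsg.Agent.LieRecognition.ReeData.h hK g) ?_ fun x hx =>
    Cfsg.Agent.S2458.result m hm hK _ (orderOf_pow_gt ho' he0 he) ?_ x hx
  · rw [ho']
    exact Nat.Coprime.symm ((Nat.Prime.coprime_iff_not_dvd Nat.prime_three).2 h3)
  · intro h4
    have h5 := h4.trans (orderOf_pow_dvd e)
    rw [ho'] at h5
    exact h3 h5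

theorem ee_pos (p : ℕ) {k l : ℕ} (hk : 2 ≤ k) (hl : 2 ≤ l) : 0 < ee p k l :=
  Nat.ordCompl_pos p (Nat.lcm_pos (by omega) (by omega)).ne'

/-- **`Sz(q)`** -/
theorem kl_isoSuzuki {G : Type*} [Group G] [Finite G] (h : Cfsg.Lie.IsoSuzuki G) (k l : ℕ) (hk : 2 ≤ k) (hl : 2 ≤ l)
    (hg : ¬ k.Coprime l) (hbig : (max k l) ^ (8 * (max k l) ^ 2) ≤ Nat.card G) : KL G k l := by
  obtain ⟨F, _, _, m, hm, hF, ⟨f⟩⟩ := h
  have hcard := (Cfsg.Agent.S1163.result hm hF).1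
  rw [← Nat.card_congr f.toEquiv] at hcard
  obtain ⟨q, hq⟩ : ∃ q, q = 2 ^ (2 * m + 1) := ⟨_, rfl⟩
  rw [← hq] at hcard
  have hq8 : 2 ^ 3 ≤ q := by rw [hq]; exact Nat.pow_le_pow_right (by norm_num) (by omega)
  have h1 : Nat.card G ≤ q ^ 5 := by
    rw [hcard]
    obtain ⟨r, rfl⟩ : ∃ r, q = r + 1 := ⟨q - 1, by omega⟩
    rw [Nat.add_sub_cancel]
    have : (r + 1) ^ 5 = (r + 1) ^ 2 * r * ((r + 1) ^ 2 + 1) + (r + 1) ^ 2 * ((r + 1) ^ 2 - r) := by
      zify [show r ≤ (r + 1) ^ 2 by nlinarith]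
      ring
    omega
  have hm2 : 2 ≤ max k l := le_trans hk (le_max_left _ _)
  have h2 := num (c := 5) hm2 (by nlinarith [Nat.pow_le_pow_left hm2 2]) (hbig.trans h1)
  have h3 := ee_le (p := 2) (by omega : 1 ≤ k) hg
  exact (SS.congr f.symm (ss_sz m hm hF (ee_pos 2 hk hl) (by omega))).kl'

/-- **`²G₂(q)`** -/
theorem kl_isoRee {G : Type*} [Group G] [Finite G] (h : Cfsg.Lie.IsoRee G) (k l : ℕ) (hk : 2 ≤ k) (hl : 2 ≤ l)
    (hg : ¬ k.Coprime l) (hbig : (max k l) ^ (8 * (max k l) ^ 2) ≤ Nat.card G) : KL G k l := by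
  obtain ⟨K, _, _, m, hm, hK, ⟨f⟩⟩ := h
  have hcard := Cfsg.Agent.S1069.result hK
  rw [← Nat.card_congr f.toEquiv] at hcard
  obtain ⟨q, hq⟩ : ∃ q, q = 3 ^ (2 * m + 1) := ⟨_, rfl⟩
  rw [← hq] at hcard
  have hq8 : 3 ^ 3 ≤ q := by rw [hq]; exact Nat.pow_le_pow_right (by norm_num) (by omega)
  have h1 : Nat.card G ≤ q ^ 7 := by
    rw [hcard]
    obtain ⟨r, rfl⟩ : ∃ r, q = r + 1 := ⟨q - 1, by omega⟩
    rw [Nat.add_sub_cancel]
    have : (r + 1) ^ 7 = (r + 1) ^ 3 * r * ((r + 1) ^ 3 + 1) + (r + 1) ^ 3 * ((r + 1) ^ 3 - r) := by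
      zify [show r ≤ (r + 1) ^ 3 by nlinarith [sq_nonneg (r + 1)]]
      ring
    omega
  have hm2 : 2 ≤ max k l := le_trans hk (le_max_left _ _)
  have h2 := num (c := 7) hm2 (by nlinarith [Nat.pow_le_pow_left hm2 2]) (hbig.trans h1)
  have h3 := ee_le (p := 3) (by omega : 1 ≤ k) hg
  exact (SS.congr f.symm (ss_ree m hm hK (ee_pos 3 hk hl) (by omega))).kl'

end Cfsg.Agent.H874.War
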