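import Cfsg.Agent.H928.War.Rgd
import Cfsg.Agent.H874.War.Rk1
import Cfsg.Agent.OddHalf.NI.ModelTw
import Cfsg.Agent.Nodes.ChevChart
import Cfsg.Agent.S1067
import Cfsg.Agent.S1071

/-!
# The word `x ^ k * y ^ l` on `³D₄(q)` (S2453, L8; helper874)

* `nf_t` : the element `t c w` of the torus has no fixed points on the unipotent groups;
* `ss` : `SS p e` if `2 e < q - 1`; `pp`; `kl_isoTriality`.
-/

set_option autoImplicit false
set_option linter.unusedSectionVars false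

namespace Cfsg.Agent.H874.War.TwD4

open CoxeterSystem Cfsg.Agent.ChevalleyStructure.CoxeterGeom Cfsg.Agent.Tits.Roots Cfsg.Agent.Tits.Core
  Cfsg.Agent.Nodes Cfsg.Agent.Nodes.Reps Cfsg.Agent.Nodes.BNOf Cfsg.Agent.Nodes.RGDLib Cfsg.Agent.Nodes.Bruhat
  Cfsg.Agent.Nodes.OppDec Cfsg.Agent.Nodes.LeviDec Cfsg.Agent.Nodes.StabComb Cfsg.Agent.Nodes.KindChev
  Cfsg.Agent.Nodes.ChevCls
  Cfsg.Agent.OddHalf.NI.ModelChev
  Cfsg.Agent.H162.GaussDec Cfsg.Agent.H162.GaussLevi Cfsg.Agent.H162.GaussSL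
  Cfsg.Agent.H928.Ore.Frame Cfsg.Agent.H928.Ore.Fix
open Cfsg.Lie Cfsg.Agent.ChevalleyStructure Cfsg.Agent.ChevalleyStructure.Elts
  Cfsg.Agent.ChevalleyStructure.NPerm
  Cfsg.Agent.ChevalleyStructure.CoxeterGeomTypes Cfsg.Agent.Nodes.RGDChev Cfsg.Agent.KFacts.RgdChevCoord
open Cfsg.Agent.Nodes.RGDTwGen Cfsg.Agent.Nodes.RGDFold Cfsg.Agent.Nodes.RGDTwD4
open Cfsg.Agent.Nodes.RGDFoldSL (Fx mem_Fx)
open Cfsg.Agent.ChevalleyStructure.TwistedU Cfsg.Agent.ChevalleyStructure.TwistedFix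
open Cfsg.Agent.Nodes.RGDTwCoord (hI wt hI_conj)
open Cfsg.Agent.Nodes.RGDTwNode.D4 (nodeOK eps_one rest)
open Cfsg.Agent.H130.War (SS PP)
open Cfsg.Agent.OddHalf.NI
open scoped MatrixGroups

universe u

/-! ### The inclusion in `D₄(q³)` -/

theorem genSubgroup_le_group {D : ChevalleyDatum} (hD : InList D) {F : Type*} [Field F] (S : Set (List (ℕ × F))) :
    D.genSubgroup F S ≤ D.group F := by
  refine (Subgroup.closure_le _).2 ?_
  rintro g ⟨w, -, hg⟩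
  rw [(Elts.eq_wordG_iff hD g w).2 hg]
  exact Elts.wordG_mem_group hD w

variable {K : Type u} [Field K]

/-- the inclusion -/
noncomputable def inc (K : Type u) [Field K] (q : ℕ) : ↥(twistedD4 K q) →* ↥(chevD4.group K) :=
  Subgroup.inclusion (genSubgroup_le_group RGDTwD4.hp.inList _)

theorem inc_injective (q : ℕ) : Function.Injective (inc K q) := Subgroup.inclusion_injective _

theorem X_le {φ : K →+* K} {q : ℕ} {z : Fin 2 → ℤ} {H : Subgroup ↥(chevD4.group K)}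
    (h : ∀ r < chevD4.nroots, V chevD4 J r = z → XX chevD4 4 K (vec chevD4 4 r) ≤ H) :
    X φ q z ≤ H.comap (inc K q) := by
  intro y hy
  have h1 : (y : GL chevD4.Idx K) ∈ rspan (xG (F := K) RGDTwD4.hp.inList) {k | k < chevD4.nroots ∧ V chevD4 J k = z} :=
    (Subgroup.mem_subgroupOf.1 hy).1
  have h2 : rspan (xG (F := K) RGDTwD4.hp.inList) {k | k < chevD4.nroots ∧ V chevD4 J k = z} ≤
      H.map (chevD4.group K).subtype := by
    refine rspan_le _ fun r hr t => ?_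
    refine ⟨xc RGDTwD4.hp (vec chevD4 4 r) t, h r hr.1 hr.2 ((mem_XX RGDTwD4.hp hr.1 _).2 ⟨_, rfl⟩), ?_⟩
    exact coe_xc RGDTwD4.hp hr.1 t
  obtain ⟨s, hs, e⟩ := h2 h1
  have e2 : s = inc K q y := Subtype.ext e
  rw [Subgroup.mem_comap, ← e2]
  exact hs

theorem tab0 : ∀ r < chevD4.nroots, (∀ k : Fin 2, 0 ≤ V chevD4 J r k) → (∃ k : Fin 2, 0 < V chevD4 J r k) →
    (∀ k : Fin 4, 0 ≤ vec chevD4 4 r k) ∧ ∃ k : Fin 4, 0 < vec chevD4 4 r k := by
  have h : ∀ r : Fin 24, (∀ k : Fin 2, 0 ≤ V chevD4 J r k) → (∃ k : Fin 2, 0 < V chevD4 J r k) →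
    (∀ k : Fin 4, 0 ≤ vec chevD4 4 r k) ∧ ∃ k : Fin 4, 0 < vec chevD4 4 r k := by decide +kernel
  exact fun r hr => h ⟨r, hr⟩

theorem tab0N : ∀ r < chevD4.nroots, (∀ k : Fin 2, V chevD4 J r k ≤ 0) → (∃ k : Fin 2, V chevD4 J r k < 0) →
    (∀ k : Fin 4, vec chevD4 4 r k ≤ 0) ∧ ∃ k : Fin 4, vec chevD4 4 r k < 0 := by
  have h : ∀ r : Fin 24, (∀ k : Fin 2, V chevD4 J r k ≤ 0) → (∃ k : Fin 2, V chevD4 J r k < 0) →
    (∀ k : Fin 4, vec chevD4 4 r k ≤ 0) ∧ ∃ k : Fin 4, vec chevD4 4 r k < 0 := by decide +kernel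
  exact fun r hr => h ⟨r, hr⟩

section

variable {W : Type*} [Group W] (cs : CoxeterSystem CoxeterMatrix.G₂ W)

theorem U_le (φ : K →+* K) (q : ℕ) : VJ cs RGDTwD4.isCartan (X φ q) ∅ ≤
    (VJ coxeterD4.toCoxeterSystem RGDTwD4.hp.isCartan (XX chevD4 4 K) ∅).comap (inc K q) := by
  refine RGD.Sup_le fun z hz => X_le fun r hr hrz => ?_
  obtain ⟨-, h0, k, -, hk0⟩ := hz
  obtain ⟨h1, k', h2⟩ := tab0 r hr (fun k => by rw [hrz]; exact h0 k) ⟨k, by rw [hrz]; exact hk0⟩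
  exact RGD.le_Sup ⟨isRoot_vec RGDTwD4.hp _ hr, fun k => h1 k, k', Set.notMem_empty _, h2⟩

theorem UN_le (φ : K →+* K) (q : ℕ) : VNJ cs RGDTwD4.isCartan (X φ q) ∅ ≤
    (VNJ coxeterD4.toCoxeterSystem RGDTwD4.hp.isCartan (XX chevD4 4 K) ∅).comap (inc K q) := by
  refine RGD.Sup_le fun z hz => X_le fun r hr hrz => ?_
  obtain ⟨-, h0, k, -, hk0⟩ := hz
  obtain ⟨h1, k', h2⟩ := tab0N r hr (fun k => by
      have := h0 k
      rw [hrz]
      simpa using this)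
    ⟨k, by rw [hrz]; simpa using hk0⟩
  refine RGD.le_Sup ⟨(isRoot_vec RGDTwD4.hp _ hr).neg, fun k => ?_, k', Set.notMem_empty _, ?_⟩
  · have := h1 k
    simpa using this
  · simpa using h2

end

/-! ### The element of the torus -/

/-- the exponents of the scalars: `cartan 1`, and the others -/
theorem tabE : ∀ r < chevD4.nroots, ∃ M : ℤ,
    2 * chevD4.cartan 1 r + chevD4.cartan 0 r + chevD4.cartan 2 r + chevD4.cartan 3 r = M ∧
    ((chevD4.cartan 0 r - chevD4.cartan 3 r = 0 ∧ chevD4.cartan 2 r - chevD4.cartan 3 r = 0 ∧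
        (M = 1 ∨ M = -1 ∨ M = 2 ∨ M = -2)) ∨
      (chevD4.cartan 0 r - chevD4.cartan 3 r = 2 ∧ chevD4.cartan 2 r - chevD4.cartan 3 r = 0) ∨
      (chevD4.cartan 0 r - chevD4.cartan 3 r = -2 ∧ chevD4.cartan 2 r - chevD4.cartan 3 r = 0) ∨
      (chevD4.cartan 0 r - chevD4.cartan 3 r = 0 ∧ chevD4.cartan 2 r - chevD4.cartan 3 r = 2) ∨
      (chevD4.cartan 0 r - chevD4.cartan 3 r = 0 ∧ chevD4.cartan 2 r - chevD4.cartan 3 r = -2) ∨
      (chevD4.cartan 0 r - chevD4.cartan 3 r = 2 ∧ chevD4.cartan 2 r - chevD4.cartan 3 r = 2) ∨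
      (chevD4.cartan 0 r - chevD4.cartan 3 r = -2 ∧ chevD4.cartan 2 r - chevD4.cartan 3 r = -2)) := by
  have h : ∀ r : Fin 24, let M := 2 * chevD4.cartan 1 r + chevD4.cartan 0 r + chevD4.cartan 2 r + chevD4.cartan 3 r
    ((chevD4.cartan 0 r - chevD4.cartan 3 r = 0 ∧ chevD4.cartan 2 r - chevD4.cartan 3 r = 0 ∧
        (M = 1 ∨ M = -1 ∨ M = 2 ∨ M = -2)) ∨
      (chevD4.cartan 0 r - chevD4.cartan 3 r = 2 ∧ chevD4.cartan 2 r - chevD4.cartan 3 r = 0) ∨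
      (chevD4.cartan 0 r - chevD4.cartan 3 r = -2 ∧ chevD4.cartan 2 r - chevD4.cartan 3 r = 0) ∨
      (chevD4.cartan 0 r - chevD4.cartan 3 r = 0 ∧ chevD4.cartan 2 r - chevD4.cartan 3 r = 2) ∨
      (chevD4.cartan 0 r - chevD4.cartan 3 r = 0 ∧ chevD4.cartan 2 r - chevD4.cartan 3 r = -2) ∨
      (chevD4.cartan 0 r - chevD4.cartan 3 r = 2 ∧ chevD4.cartan 2 r - chevD4.cartan 3 r = 2) ∨
      (chevD4.cartan 0 r - chevD4.cartan 3 r = -2 ∧ chevD4.cartan 2 r - chevD4.cartan 3 r = -2)) := by decide +kernel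
  exact fun r hr => ⟨_, rfl, h ⟨r, hr⟩⟩

section

variable {φ : K →+* K}

/-- the scalar of the root `r` is not `1` -/
theorem scal_ne {c w : K} (hc0 : c ≠ 0) (hw0 : w ≠ 0) (hc : φ c = c) (hc2 : c ^ 2 ≠ 1)
    (hw : w * (φ w * φ (φ w)) = 1) (hw2 : φ (w ^ 2) ≠ w ^ 2) {r : ℕ} (hr : r < chevD4.nroots) :
    wt chevD4 φ (J 0) r (c ^ 2) * wt chevD4 φ (J 1) r (c * w) ≠ 1 := by
  have hφ0 : φ w ≠ 0 := (map_ne_zero φ).2 hw0
  have hφ00 : φ (φ w) ≠ 0 := (map_ne_zero φ).2 hφ0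
  have e3 : φ (φ w) = (w * φ w)⁻¹ := by
    apply eq_inv_of_mul_eq_one_left
    rw [← hw]
    ring
  have hval : wt chevD4 φ (J 0) r (c ^ 2) * wt chevD4 φ (J 1) r (c * w) =
      c ^ (2 * chevD4.cartan 1 r + chevD4.cartan 0 r + chevD4.cartan 2 r + chevD4.cartan 3 r) *
        (w ^ (chevD4.cartan 0 r - chevD4.cartan 3 r) * (φ w) ^ (chevD4.cartan 2 r - chevD4.cartan 3 r)) := by
    change ((c ^ 2) ^ chevD4.cartan 1 r * 1) * ((c * w) ^ chevD4.cartan 0 r * ((φ (c * w)) ^ chevD4.cartan 2 r *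
      ((φ (φ (c * w))) ^ chevD4.cartan 3 r * 1))) = _
    rw [map_mul, map_mul, hc, hc, e3, mul_zpow, mul_zpow, mul_zpow, inv_zpow, mul_zpow, zpow_sub₀ hw0, zpow_sub₀ hφ0,
      zpow_add₀ hc0, zpow_add₀ hc0, zpow_add₀ hc0, zpow_mul, mul_inv]
    simp only [div_eq_mul_inv, zpow_ofNat]
    ring
  rw [hval]
  obtain ⟨M, hM, h⟩ := tabE r hr
  rw [hM]
  have hcM : φ (c ^ M) = c ^ M := by rw [map_zpow₀, hc]
  have hcM0 : c ^ M ≠ 0 := zpow_ne_zero _ hc0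
  have hinj : ∀ {x y : K}, φ x = φ y → x = y := fun h => φ.injective h
  -- a value fixed by `φ`
  have key : ∀ {v : K}, c ^ M * v = 1 → φ v = v := by
    intro v hv
    have h1 := congrArg φ hv
    rw [map_mul, map_one, hcM, ← hv] at h1
    exact mul_left_cancel₀ hcM0 h1
  rcases h with ⟨h1, h2, h3⟩ | ⟨h1, h2⟩ | ⟨h1, h2⟩ | ⟨h1, h2⟩ | ⟨h1, h2⟩ | ⟨h1, h2⟩ | ⟨h1, h2⟩
  · rw [h1, h2, zpow_zero, zpow_zero, mul_one, mul_one]
    intro h4
    apply hc2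
    rcases h3 with h3 | h3 | h3 | h3
    · rw [h3, zpow_one] at h4
      rw [h4, one_pow]
    · rw [h3, zpow_neg_one, inv_eq_one] at h4
      rw [h4, one_pow]
    · rw [h3] at h4
      exact_mod_cast h4
    · rw [h3, zpow_neg, inv_eq_one] at h4
      exact_mod_cast h4
  all_goals
    rw [h1, h2]
    intro h4
    have h5 := key h4
    clear h4
  · rw [zpow_zero, mul_one] at h5
    exact hw2 (by exact_mod_cast h5)
  · rw [zpow_zero, mul_one, zpow_neg, map_inv₀, inv_inj] at h5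
    exact hw2 (by exact_mod_cast h5)
  · rw [zpow_zero, one_mul] at h5
    have h6 : φ (φ (w ^ 2)) = φ (w ^ 2) := by
      rw [map_pow]
      exact_mod_cast h5
    exact hw2 (hinj h6)
  · rw [zpow_zero, one_mul, zpow_neg, map_inv₀, inv_inj] at h5
    have h6 : φ (φ (w ^ 2)) = φ (w ^ 2) := by
      rw [map_pow]
      exact_mod_cast h5
    exact hw2 (hinj h6)
  · have h6 : φ (φ (φ (w ^ 2))) = φ (φ (w ^ 2)) := by
      rw [map_pow, map_pow, e3, inv_pow, map_inv₀, inv_inj, mul_pow]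
      exact_mod_cast h5
    exact hw2 (hinj (hinj h6))
  · have h6 : φ (φ (φ (w ^ 2))) = φ (φ (w ^ 2)) := by
      rw [zpow_neg, zpow_neg, ← mul_inv, map_inv₀, inv_inj] at h5
      rw [map_pow, map_pow, e3, inv_pow, map_inv₀, inv_inj, mul_pow]
      exact_mod_cast h5
    exact hw2 (hinj (hinj h6))

end

section

variable [Fintype K] {φ : K →+* K} {q : ℕ} (hK : Fintype.card K = q ^ 3) (hφ : ∀ x, φ x = x ^ q)

include hφ in
theorem hf (i : Fin 2) : ∀ s ∈ Cfsg.Agent.Nodes.RGDTwNode.D4.rep i :: rest i, ∀ t : K,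
    ((eps s : ℤ) : K) * φ t = φ t := fun s hs t => by
  rw [eps_one i s hs, Int.cast_one, one_mul]

/-- the homomorphisms of the nodes -/
noncomputable def P (i : Fin 2) : SL(2, Fx φ ((rest i).length + 1)) →* ↥(twistedD4 K q) :=
  Cfsg.Agent.Nodes.RGDFoldSL.Phi (foldGrp hφ (D4Fixed.twisted_le_fix hK hφ)) (nodeOK i) (hf hφ i)

theorem coordP : Mult.Coord (X φ q) (fun i => Fx φ ((rest i).length + 1)) (P hK hφ) := by
  obtain ⟨p, hp'⟩ := CharP.exists K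
  have : Fact p.Prime := ⟨CharP.char_is_prime K p⟩
  exact ModelTw.coord (foldGrp hφ (D4Fixed.twisted_le_fix hK hφ)) nodeOK (hf hφ)
    CoxeterMatrix.G₂.toCoxeterSystem isCartan foldData p

/-- the element of the torus -/
noncomputable def tt (a : (Fx φ ((rest 0).length + 1))ˣ) (b : (Fx φ ((rest 1).length + 1))ˣ) : ↥(twistedD4 K q) :=
  P hK hφ 0 (Mult.dg a) * P hK hφ 1 (Mult.dg b)

theorem tt_mem (a : (Fx φ ((rest 0).length + 1))ˣ) (b : (Fx φ ((rest 1).length + 1))ˣ) : tt hK hφ a b ∈ T K q :=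
  mul_mem (ModelTw.Phi_dg_mem (foldGrp hφ (D4Fixed.twisted_le_fix hK hφ)) nodeOK (hf hφ) 0 a)
    (ModelTw.Phi_dg_mem (foldGrp hφ (D4Fixed.twisted_le_fix hK hφ)) nodeOK (hf hφ) 1 b)

theorem tt_pow (a : (Fx φ ((rest 0).length + 1))ˣ) (b : (Fx φ ((rest 1).length + 1))ˣ) (e : ℕ) :
    tt hK hφ a b ^ e = tt hK hφ (a ^ e) (b ^ e) := by
  have h1 : P hK hφ 0 (Mult.dg a) ∈ T K q :=
    ModelTw.Phi_dg_mem (foldGrp hφ (D4Fixed.twisted_le_fix hK hφ)) nodeOK (hf hφ) 0 a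
  have h2 : P hK hφ 1 (Mult.dg b) ∈ T K q :=
    ModelTw.Phi_dg_mem (foldGrp hφ (D4Fixed.twisted_le_fix hK hφ)) nodeOK (hf hφ) 1 b
  have h3 : Commute (P hK hφ 0 (Mult.dg a)) (P hK hφ 1 (Mult.dg b)) :=
    congrArg Subtype.val (ModelTw.comm_TG (hp := RGDTwD4.hp) (⟨_, h1⟩ : ↥(T K q)) ⟨_, h2⟩)
  have h4 : ∀ {F : Type u} [Field F] (x : Fˣ), (Mult.dg x : SL(2, F)) ^ e = Mult.dg (x ^ e) := fun x =>
    (map_pow Mult.dgHom x e).symm
  unfold tt
  rw [h3.mul_pow, ← map_pow, ← map_pow, h4, h4]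

theorem conj_tt (a : (Fx φ ((rest 0).length + 1))ˣ) (b : (Fx φ ((rest 1).length + 1))ˣ) {r : ℕ}
    (hr : r < chevD4.nroots) (u : K) :
    inc K q (tt hK hφ a b) * xc RGDTwD4.hp (vec chevD4 4 r) u * (inc K q (tt hK hφ a b))⁻¹ =
      xc RGDTwD4.hp (vec chevD4 4 r) (wt chevD4 φ (J 0) r ((a : Fx φ ((rest 0).length + 1)) : K) *
        wt chevD4 φ (J 1) r ((b : Fx φ ((rest 1).length + 1)) : K) * u) := by
  have ha : ((a : Fx φ ((rest 0).length + 1)) : K) ≠ 0 := fun h => a.ne_zero (Subtype.ext h)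
  have hb : ((b : Fx φ ((rest 1).length + 1)) : K) ≠ 0 := fun h => b.ne_zero (Subtype.ext h)
  have e1 : ((inc K q (tt hK hφ a b) : ↥(chevD4.group K)) : GL chevD4.Idx K) =
      hI RGDTwD4.hp φ (J 0) ((a : Fx φ ((rest 0).length + 1)) : K) *
        hI RGDTwD4.hp φ (J 1) ((b : Fx φ ((rest 1).length + 1)) : K) := by
    have h1 := ModelTw.coe_Phi_dg (foldGrp hφ (D4Fixed.twisted_le_fix hK hφ)) nodeOK (hf hφ) 0 a
    have h2 := ModelTw.coe_Phi_dg (foldGrp hφ (D4Fixed.twisted_le_fix hK hφ)) nodeOK (hf hφ) 1 b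
    rw [← h1, ← h2]
    rfl
  apply Subtype.ext
  rw [Subgroup.coe_mul, Subgroup.coe_mul, Subgroup.coe_inv, coe_xc RGDTwD4.hp hr, coe_xc RGDTwD4.hp hr, e1]
  have e2 := hI_conj (hp := RGDTwD4.hp) (φ := φ) (J 1) hr hb u
  have e3 := hI_conj (hp := RGDTwD4.hp) (φ := φ) (J 0) hr ha
    (wt chevD4 φ (J 1) r ((b : Fx φ ((rest 1).length + 1)) : K) * u)
  rw [← e2] at e3
  rw [mul_assoc (wt chevD4 φ (J 0) r _), ← e3]
  group

/-- no fixed points -/
theorem nf_t {W : Type*} [Group W] (cs : CoxeterSystem CoxeterMatrix.G₂ W) {c w : K} (hc0 : c ≠ 0) (hw0 : w ≠ 0)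
    (hc : φ c = c) (hw : w * (φ w * φ (φ w)) = 1)
    {a : (Fx φ ((rest 0).length + 1))ˣ} {b : (Fx φ ((rest 1).length + 1))ˣ}
    (ha : ((a : Fx φ ((rest 0).length + 1)) : K) = c ^ 2) (hb : ((b : Fx φ ((rest 1).length + 1)) : K) = c * w)
    {e : ℕ} (hc2 : (c ^ e) ^ 2 ≠ 1) (hw2 : φ ((w ^ e) ^ 2) ≠ (w ^ e) ^ 2) :
    NF (VNJ cs RGDTwD4.isCartan (X φ q) ∅) (tt hK hφ a b ^ e) ∧
      NF (VJ cs RGDTwD4.isCartan (X φ q) ∅) (tt hK hφ a b ^ e) := by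
  obtain ⟨p, hpc⟩ := CharP.exists K
  have : Fact p.Prime := ⟨(CharP.char_is_prime_or_zero K p).resolve_right (CharP.char_ne_zero_of_finite K p)⟩
  have R := RGDChev.rgd (K := K) RGDTwD4.hp coxeterD4.toCoxeterSystem p
  have hm : inc K q (tt hK hφ a b ^ e) ∈ TT chevD4 K := by
    have h1 := (Subgroup.mem_subgroupOf.1 (pow_mem (tt_mem hK hφ a b) e)).1
    exact Subgroup.mem_subgroupOf.2 h1
  have hf : NoFix coxeterD4.toCoxeterSystem RGDTwD4.hp.isCartan (XX chevD4 4 K) ∅ (inc K q (tt hK hφ a b ^ e)) := by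
    refine noFix_ch RGDTwD4.hp hm fun r hr _ => ?_
    have h2 : ch RGDTwD4.hp (vec chevD4 4 r) (inc K q (tt hK hφ a b ^ e)) =
        wt chevD4 φ (J 0) r ((c ^ e) ^ 2) * wt chevD4 φ (J 1) r (c ^ e * w ^ e) := by
      apply ch_eq RGDTwD4.hp hr hm
      rw [tt_pow, conj_tt hK hφ _ _ hr, mul_one]
      congr 3
      · rw [Units.val_pow_eq_pow_val, SubmonoidClass.coe_pow, ha]
        ring
      · rw [Units.val_pow_eq_pow_val, SubmonoidClass.coe_pow, hb, mul_pow]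
    rw [h2]
    refine scal_ne (pow_ne_zero _ hc0) (pow_ne_zero _ hw0) (by rw [map_pow, hc]) hc2 ?_ hw2 hr
    rw [map_pow, map_pow, ← mul_pow, ← mul_pow, hw, one_pow]
  have := Cfsg.Agent.Nodes.RGDChev.finite_W RGDTwD4.hp coxeterD4.toCoxeterSystem
  constructor
  · refine NF.of_hom _ (inc_injective q) (UN_le cs φ q) ?_
    exact fun x hx h5 => fix_VNJ R hm hf hx h5
  · refine NF.of_hom _ (inc_injective q) (U_le cs φ q) ?_
    exact fun x hx h5 => fix_VJ R hm hf hx h5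

end

/-! ### The group -/

theorem finite_tw (K : Type u) [Field K] [Finite K] (q : ℕ) : Finite ↥(twistedD4 K q) := by
  have hfin : Finite (GL chevD4.Idx K) := by
    have : Finite (Matrix chevD4.Idx chevD4.Idx K) := inferInstance
    infer_instance
  infer_instance

theorem hconn : ∀ J : Set (Fin 2), J.Nonempty → J ≠ Set.univ → ∃ a ∈ J, ∃ b, b ∉ J ∧ CoxeterMatrix.G₂ a b ≠ 2 :=
  Cfsg.Agent.Nodes.ChevChart.irr_of Cfsg.Agent.Nodes.ChevChart.irrG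

/-- the elements `c` (of order `q - 1`) and `w` (of norm `1`) -/
theorem exists_cw [Fintype K] {φ : K →+* K} {q : ℕ} (hφ : ∀ x, φ x = x ^ q) (hK : Fintype.card K = q ^ 3) {e : ℕ}
    (he : 0 < e) (h : 2 * e < q - 1) : ∃ c w : Kˣ, φ (c : K) = c ∧ (w : K) * (φ w * φ (φ w)) = 1 ∧
      ((c : K) ^ e) ^ 2 ≠ 1 ∧ φ (((w : K) ^ e) ^ 2) ≠ ((w : K) ^ e) ^ 2 := by
  classical
  obtain ⟨z, hz⟩ := IsCyclic.exists_ofOrder_eq_natCard (α := Kˣ)
  obtain ⟨n, rfl⟩ : ∃ n, q = n + 1 := ⟨q - 1, by omega⟩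
  rw [Nat.add_sub_cancel] at h
  have h2 : Nat.card Kˣ = n * (n ^ 2 + 3 * n + 3) := by
    rw [Nat.card_units, Nat.card_eq_fintype_card, hK]
    have : (n + 1) ^ 3 = n * (n ^ 2 + 3 * n + 3) + 1 := by ring
    rw [this, Nat.add_sub_cancel]
  rw [h2] at hz
  have hN : 0 < n ^ 2 + 3 * n + 3 := by omega
  have hφu : ∀ x : Kˣ, φ (x : K) = ((x ^ (n + 1) : Kˣ) : K) := fun x => by rw [hφ, Units.val_pow_eq_pow_val]
  refine ⟨z ^ (n ^ 2 + 3 * n + 3), z ^ n, ?_, ?_, ?_, ?_⟩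
  · rw [hφu, Units.val_inj, ← pow_mul]
    have : (n ^ 2 + 3 * n + 3) * (n + 1) = n * (n ^ 2 + 3 * n + 3) + (n ^ 2 + 3 * n + 3) := by ring
    rw [this, pow_add, ← hz, pow_orderOf_eq_one, one_mul]
  · rw [hφu, hφu, ← Units.val_mul, ← Units.val_mul, Units.val_eq_one, ← pow_mul, ← pow_mul, ← pow_add, ← pow_add]
    have : n + (n * (n + 1) + n * (n + 1) * (n + 1)) = n * (n ^ 2 + 3 * n + 3) := by ring
    rw [this, ← hz, pow_orderOf_eq_one]
  · rw [← Units.val_pow_eq_pow_val, ← Units.val_pow_eq_pow_val, ne_eq, Units.val_eq_one, ← pow_mul, ← pow_mul]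
    intro h3
    have h4 := orderOf_dvd_of_pow_eq_one h3
    rw [hz, mul_comm n] at h4
    have h5 := Nat.dvd_of_mul_dvd_mul_left hN h4
    have h6 := Nat.le_of_dvd (by omega) h5
    omega
  · intro h3
    -- the element `v = w ^ (2 e)` is fixed: `v ^ 3 = 1`
    have h4 : (((z ^ n : Kˣ) : K) ^ e) ^ 2 * (φ ((((z ^ n : Kˣ) : K) ^ e) ^ 2) * φ (φ ((((z ^ n : Kˣ) : K) ^ e) ^ 2))) = 1 := by
      simp only [hφu, ← Units.val_pow_eq_pow_val, ← Units.val_mul]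
      rw [Units.val_eq_one]
      simp only [← pow_mul, ← pow_add]
      have : n * e * 2 + (n * e * 2 * (n + 1) + n * e * 2 * (n + 1) * (n + 1)) =
          n * (n ^ 2 + 3 * n + 3) * (e * 2) := by
        ring
      rw [this, pow_mul, ← hz, pow_orderOf_eq_one, one_pow]
    rw [h3, h3, ← Units.val_pow_eq_pow_val, ← Units.val_pow_eq_pow_val, ← Units.val_mul, ← Units.val_mul,
      Units.val_eq_one, ← pow_mul, ← pow_mul, ← pow_add, ← pow_add] at h4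
    have h5 := orderOf_dvd_of_pow_eq_one h4
    rw [hz] at h5
    have h6 : n * (e * 2) + (n * (e * 2) + n * (e * 2)) = n * (6 * e) := by ring
    rw [h6] at h5
    have h7 := Nat.dvd_of_mul_dvd_mul_left (by omega) h5
    have h8 := Nat.le_of_dvd (by omega) h7
    nlinarith

/-- **Powers of regular elements.** -/
theorem ss [Fintype K] {q p : ℕ} [Fact p.Prime] [CharP K p] (hq : IsPrimePow q) (hK : Fintype.card K = q ^ 3)
    {e : ℕ} (he : 0 < e) (h : 2 * e < q - 1) : SS p e ↥(twistedD4 K q) := by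
  obtain ⟨φ, hφ⟩ := D4Fixed.exists_frob hq hK
  have := finite_tw K q
  have R := RGDTwD4.rgd CoxeterMatrix.G₂.toCoxeterSystem hK hφ p
  have : Finite CoxeterMatrix.G₂.Group := Cfsg.Agent.Nodes.RGDFold.finite_W (hp := RGDTwD4.hp)
    CoxeterMatrix.G₂.toCoxeterSystem RGDTwD4.isCartan RGDTwD4.foldData
  have hS := Cfsg.Agent.S1071.result hq hK
  have := hS.1
  obtain ⟨c, w, hc, hw, hc2, hw2⟩ := exists_cw hφ hK he h
  obtain ⟨a, ha⟩ : ∃ a : (Fx φ ((rest 0).length + 1))ˣ, ((a : Fx φ ((rest 0).length + 1)) : K) = (c : K) ^ 2 := by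
    refine ⟨Units.mk0 ⟨(c : K) ^ 2, ?_⟩ ?_, rfl⟩
    · refine mem_Fx.2 ?_
      show φ ((c : K) ^ 2) = (c : K) ^ 2
      rw [map_pow, hc]
    · intro h0
      exact pow_ne_zero 2 c.ne_zero (congrArg Subtype.val h0)
  obtain ⟨b, hb⟩ : ∃ b : (Fx φ ((rest 1).length + 1))ˣ, ((b : Fx φ ((rest 1).length + 1)) : K) = (c : K) * w := by
    refine ⟨Units.mk0 ⟨(c : K) * w, ?_⟩ ?_, rfl⟩
    · refine mem_Fx.2 ?_
      show φ (φ (φ ((c : K) * w))) = (c : K) * w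
      rw [hφ, hφ, hφ, ← pow_mul, ← pow_mul]
      have : q * (q * q) = Fintype.card K := by rw [hK]; ring
      rw [this, FiniteField.pow_card]
    · intro h0
      exact mul_ne_zero c.ne_zero w.ne_zero (congrArg Subtype.val h0)
  obtain ⟨g1, g2⟩ := nf_t hK hφ CoxeterMatrix.G₂.toCoxeterSystem c.ne_zero w.ne_zero hc hw ha hb hc2 hw2
  exact Cfsg.Agent.H928.War.Rgd.ss_nf R (RGDTwD4.G1_eq_top CoxeterMatrix.G₂.toCoxeterSystem hK hφ)
    (coordP hK hφ) hconn (tt_mem hK hφ a b) g1 g2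

/-- **Two `p`-elements.** -/
theorem pp [Fintype K] {q p : ℕ} [Fact p.Prime] [CharP K p] (hq : IsPrimePow q) (hK : Fintype.card K = q ^ 3) :
    PP p ↥(twistedD4 K q) := by
  obtain ⟨φ, hφ⟩ := D4Fixed.exists_frob hq hK
  have := finite_tw K q
  have R := RGDTwD4.rgd CoxeterMatrix.G₂.toCoxeterSystem hK hφ p
  have : Finite CoxeterMatrix.G₂.Group := Cfsg.Agent.Nodes.RGDFold.finite_W (hp := RGDTwD4.hp)
    CoxeterMatrix.G₂.toCoxeterSystem RGDTwD4.isCartan RGDTwD4.foldData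
  have hS := Cfsg.Agent.S1071.result hq hK
  have := hS.1
  exact Cfsg.Agent.H928.War.Rgd.pp R (RGDTwD4.G1_eq_top CoxeterMatrix.G₂.toCoxeterSystem hK hφ) (coordP hK hφ) hconn

/-! ### The numbers -/

theorem pow_mono {a b : ℕ} (ha : 1 ≤ a) (h : a ≤ b) : a ^ (8 * a ^ 2) ≤ b ^ (8 * b ^ 2) := by
  calc a ^ (8 * a ^ 2) ≤ b ^ (8 * a ^ 2) := Nat.pow_le_pow_left h _
    _ ≤ b ^ (8 * b ^ 2) := Nat.pow_le_pow_right (by omega)
        (Nat.mul_le_mul_left 8 (Nat.pow_le_pow_left h 2))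

theorem card_le [Fintype K] {q : ℕ} (hq : IsPrimePow q) (hK : Fintype.card K = q ^ 3) :
    Nat.card ↥(twistedD4 K q) < q ^ 29 := by
  rw [Cfsg.Agent.S1067.result hq hK]
  have hq2 : 2 ≤ q := hq.two_le
  have h8 : q ^ 8 + q ^ 4 + 1 < q ^ 9 := by
    have h4 : q ^ 8 = q ^ 4 * q ^ 4 := by ring
    have h9 : q ^ 9 = q * q ^ 8 := by ring
    have h5 : 2 ^ 4 ≤ q ^ 4 := Nat.pow_le_pow_left hq2 4
    nlinarith [Nat.mul_le_mul_right (q ^ 8) hq2, Nat.mul_le_mul_right (q ^ 4) h5]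
  calc q ^ 12 * (q ^ 2 - 1) * (q ^ 6 - 1) * (q ^ 8 + q ^ 4 + 1) ≤ q ^ 12 * q ^ 2 * q ^ 6 * (q ^ 8 + q ^ 4 + 1) := by
        gcongr
        · exact Nat.sub_le _ _
        · exact Nat.sub_le _ _
    _ < q ^ 12 * q ^ 2 * q ^ 6 * q ^ 9 := Nat.mul_lt_mul_of_pos_left h8 (by positivity)
    _ = q ^ 29 := by ring

/-- **The row `³D₄(q)`.** -/
theorem kl_3D4 {K : Type u} [Field K] [Fintype K] {q : ℕ} (hq : IsPrimePow q) (hK : Fintype.card K = q ^ 3) {k l : ℕ}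
    (hk : 2 ≤ k) (hl : 2 ≤ l) (hg : ¬ k.Coprime l)
    (hbig : (max k l) ^ (8 * (max k l) ^ 2) ≤ Nat.card ↥(twistedD4 K q)) :
    Cfsg.Agent.H134.War.KL ↥(twistedD4 K q) k l := by
  obtain ⟨p, hpc⟩ := CharP.exists K
  have hp : p.Prime := (CharP.char_is_prime_or_zero K p).resolve_right (CharP.char_ne_zero_of_finite K p)
  have : Fact p.Prime := ⟨hp⟩
  have hb := lt_of_le_of_lt hbig (card_le hq hK)
  have hm2 : 2 ≤ max k l := le_trans hk (le_max_left _ _)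
  by_cases hd : p ∣ k ∨ p ∣ l
  · refine Cfsg.Agent.H130.War.SS.kl' (p := p) ?_
    refine ss hq hK (ee_pos p hk hl) ?_
    have hpq : p ∣ q := by
      have h1 : (p : ℕ) ∣ Fintype.card K := by
        obtain ⟨n, -, hn⟩ := FiniteField.card K p
        rw [hn]
        exact dvd_pow_self p n.ne_zero
      rw [hK] at h1
      exact hp.dvd_of_dvd_pow h1
    by_cases hm : max k l ≤ 5
    · rw [Cfsg.Agent.H130.War.ee_eq_one hp hk hl hg hm hd]
      by_contra hcon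
      have hq3 : q ≤ 3 := by omega
      have hq2 : 2 ≤ q := hq.two_le
      interval_cases q
      · -- `q = 2`: the order is too small
        have h1 : Nat.card ↥(twistedD4 K 2) = 211341312 := by
          rw [Cfsg.Agent.S1067.result hq hK]
          norm_num
        have h2 := pow_mono (by norm_num : 1 ≤ 2) hm2
        rw [h1] at hbig
        norm_num at h2
        omega
      · -- `q = 3`: `m ≥ 3`
        have hp3 : p = 3 := (Nat.prime_dvd_prime_iff_eq hp Nat.prime_three).1 hpq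
        subst hp3
        have hm3 : 3 ≤ max k l := by
          rcases hd with h | h
          · exact (Nat.le_of_dvd (by omega) h).trans (le_max_left _ _)
          · exact (Nat.le_of_dvd (by omega) h).trans (le_max_right _ _)
        have h2 := pow_mono (by norm_num : 1 ≤ 3) hm3
        have h3 : (3 : ℕ) ^ 29 < 3 ^ (8 * 3 ^ 2) := by norm_num
        omega
    · have h1 := num (c := 29) hm2 (by nlinarith [Nat.pow_le_pow_left (by omega : 6 ≤ max k l) 2]) hb.le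
      have h2 := Cfsg.Agent.H130.War.ee_le (p := p) (by omega : 1 ≤ k) hg
      omega
  · rw [not_or] at hd
    exact Cfsg.Agent.H130.War.PP.kl hp (pp hq hK) hd.1 hd.2

/-- **`³D₄(q)`** -/
theorem kl_iso3D4 {G : Type*} [Group G] [Finite G] (h : Cfsg.Lie.Iso3D4 G) (k l : ℕ) (hk : 2 ≤ k) (hl : 2 ≤ l)
    (hg : ¬ k.Coprime l) (hbig : (max k l) ^ (8 * (max k l) ^ 2) ≤ Nat.card G) : Cfsg.Agent.H134.War.KL G k l := by
  obtain ⟨K, _, _, q, hq, hK, ⟨f⟩⟩ := h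
  rw [Nat.card_congr f.toEquiv] at hbig
  exact (kl_3D4 hq hK hk hl hg hbig).congr f.symm

end Cfsg.Agent.H874.War.TwD4
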