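import Cfsg.Agent.H84.TwF4Cover
import Cfsg.Agent.H874.War.Rk1
import Cfsg.Agent.Lib.Zsigmondy
import Cfsg.Agent.S1068

/-!
# The word `x ^ k * y ^ l` on `²F₄(q)` (S2453, L8; helper874)

`t = s h`, `s` of large prime order `r ∣ q² + 1` in the Suzuki Levi subgroup, `h` a generator of the torus of the orthogonal
Suzuki subgroup: all powers `t ^ e`, `0 < e < q - 1`, `r ∤ e`, cover (H84).
-/

set_option autoImplicit false
set_option linter.unusedSectionVars false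

namespace Cfsg.Agent.H874.War.TwF4

open Cfsg Cfsg.Agent.H130.War

section Sz

open Cfsg.Agent.LieRecognition.SzMatrix

theorem sz_cover {P : Type*} [Group P] (h : Lie.IsoSuzuki P) {k : ℕ} (hk : (2 ^ k) ^ 2 ∣ Nat.card P) :
    ∃ (n r : ℕ) (s : P), k ≤ n ∧ r.Prime ∧ (∀ m, r ∣ 2 ^ m - 1 ↔ 4 * n ∣ m) ∧ 4 * n ∣ r - 1 ∧ s ^ r = 1 ∧
      ∀ e, ¬ r ∣ e → ∀ l : P, ∃ a b : P, l = (a * s ^ e * a⁻¹) * (b * s ^ e * b⁻¹) := by
  obtain ⟨F, _, _, m, hm, hF, ⟨f⟩⟩ := h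
  have hfin : Finite ↥(Cfsg.Lie.Sz F (2 ^ (m + 1))) := inferInstance
  have hcard := (Cfsg.Agent.S1163.result hm hF).1
  rw [Nat.card_congr f.toEquiv, hcard] at hk
  have hkm : k ≤ 2 * m + 1 := by
    have ho : Odd ((2 ^ (2 * m + 1) - 1) * ((2 ^ (2 * m + 1)) ^ 2 + 1)) := by
      refine Odd.mul ?_ ?_
      · exact Nat.Even.sub_odd Nat.one_le_two_pow ((Nat.even_pow' (by omega)).mpr even_two) odd_one
      · exact Even.add_one (((Nat.even_pow' (by omega)).mpr even_two).pow_of_ne_zero (by norm_num))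
    rw [mul_assoc, ← pow_mul] at hk
    have h1 : (2 ^ (k * 2)).Coprime ((2 ^ (2 * m + 1) - 1) * ((2 ^ (2 * m + 1)) ^ 2 + 1)) :=
      Nat.Coprime.pow_left _ (Nat.coprime_two_left.2 ho)
    have h2 := h1.dvd_of_dvd_mul_right hk
    rw [← pow_mul] at h2
    have h3 := (Nat.pow_dvd_pow_iff_le_right (by norm_num : 1 < 2)).1 h2
    omega
  obtain ⟨r, hr, h1, h2, h3⟩ := Cfsg.Agent.Lib.Zsigmondy.exists_primitive (a := 2) (n := 4 * (2 * m + 1)) le_rfl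
    (by omega) (by omega) (by rintro ⟨-, h6⟩; omega)
  have hr1 := hr.one_lt
  have hr12 : 12 ≤ r - 1 := le_trans (by omega) (Nat.le_of_dvd (by omega) h2)
  have := Fact.mk hr
  have hdvd : r ∣ Nat.card ↥(Cfsg.Lie.Sz F (2 ^ (m + 1))) := by
    rw [hcard]
    refine dvd_mul_of_dvd_right ?_ _
    have h4 : r ∣ 2 ^ (4 * (2 * m + 1)) - 1 := (h1 _).2 dvd_rfl
    have h5 : 2 ^ (4 * (2 * m + 1)) - 1 = (2 ^ (2 * (2 * m + 1)) - 1) * ((2 ^ (2 * m + 1)) ^ 2 + 1) := by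
      have e1 : 2 ^ (4 * (2 * m + 1)) = 2 ^ (2 * (2 * m + 1)) * 2 ^ (2 * (2 * m + 1)) := by
        rw [← pow_add]; congr 1; ring
      have e2 : (2 ^ (2 * m + 1)) ^ 2 = 2 ^ (2 * (2 * m + 1)) := by rw [← pow_mul, mul_comm]
      have e3 : 1 ≤ 2 ^ (2 * (2 * m + 1)) := Nat.one_le_two_pow
      rw [e1, e2]
      obtain ⟨c, hc⟩ : ∃ c, 2 ^ (2 * (2 * m + 1)) = c + 1 := ⟨2 ^ (2 * (2 * m + 1)) - 1, by omega⟩
      rw [hc, Nat.add_sub_cancel]
      have : (c + 1) * (c + 1) = c * (c + 1 + 1) + 1 := by ring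
      rw [this, Nat.add_sub_cancel]
    rw [h5] at h4
    rcases hr.dvd_mul.1 h4 with h6 | h6
    · exfalso
      have h7 := (h1 _).1 h6
      have := Nat.le_of_dvd (by omega) h7
      omega
    · exact h6
  obtain ⟨x0, hx0⟩ := exists_prime_orderOf_dvd_card' r hdvd
  have key : ∀ e, ¬ r ∣ e → ∀ l : ↥(Cfsg.Lie.Sz F (2 ^ (m + 1))), ∃ a b,
      l = (a * x0 ^ e * a⁻¹) * (b * x0 ^ e * b⁻¹) := by
    intro e he l
    have hx : orderOf (x0 ^ e) = r := by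
      rw [Nat.Coprime.orderOf_pow (by rw [hx0]; exact (Nat.Prime.coprime_iff_not_dvd hr).2 he), hx0]
    by_cases hl : l = 1
    · have hx1 : x0 ^ e ≠ 1 := by
        intro h
        rw [h, orderOf_one] at hx
        omega
      rcases Cfsg.Agent.H147.Sz.real hm hF (x0 ^ e) hx1 with ⟨-, i, -, hi, h⟩ | ⟨a, b, h⟩
      · refine ⟨1, i, ?_⟩
        have hii : i⁻¹ = i := inv_eq_of_mul_eq_one_left hi
        rw [hl, hii, h]; group
      · exfalso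
        obtain ⟨c, hc⟩ := isConj_iff.1 h
        have h4 : (good hF).u a b ^ 4 = 1 := by
          rw [Cfsg.Agent.H84.SzLevi.four_eq, Cfsg.Agent.H147.Sz.u_sq, Cfsg.Agent.H147.Sz.u_sq, zero_mul, (good hF).u_zero]
        rw [← hc, conj_pow] at h4
        have h5 : (x0 ^ e) ^ 4 = 1 := by
          have e1 : (x0 ^ e) ^ 4 = c⁻¹ * (c * (x0 ^ e) ^ 4 * c⁻¹) * c := by group
          rw [e1, h4]; group
        have h6 := orderOf_dvd_of_pow_eq_one h5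
        rw [hx] at h6
        have := Nat.le_of_dvd (by norm_num) h6
        omega
    · exact Cfsg.Agent.S2457.result m hm hF (x0 ^ e) (by rw [hx]; omega) l hl
  refine ⟨2 * m + 1, r, f.symm x0, hkm, hr, h1, h2, ?_, ?_⟩
  · rw [← map_pow, ← hx0, pow_orderOf_eq_one, map_one]
  · intro e he l
    obtain ⟨a, b, hab⟩ := key e he (f l)
    refine ⟨f.symm a, f.symm b, ?_⟩
    have := congrArg f.symm hab
    simpa using this

end Sz

section Full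

open Cfsg.Agent.SplitTwo Cfsg.Agent.SplitTwo.ZS Cfsg.Agent.TitsThree.RankTwoZ
open Cfsg.Agent.KFacts.TwF4 Cfsg.Agent.KFacts.TwF4.Arc Cfsg.Agent.KFacts.TwF4.Inv
open Cfsg.Agent.H84.TwF4Two Cfsg.Agent.H67.TwFFourOdd Cfsg.Agent.H67.RankTwo Cfsg.Agent.H67.RankOneId
open Cfsg.Agent.H84.GaussTwF4

universe u

variable {F : Type*} [Field F] {σ : F →+* F} {G : Type u} [Group G] (S : Full σ G)

theorem LL_cover [Finite F] [Finite G] {k : ℕ} (hk : 2 ≤ k) (hF : Nat.card F = 2 ^ k) : ∃ (n r : ℕ), ∃ s ∈ LL S,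
    k ≤ n ∧ r.Prime ∧ (∀ m, r ∣ 2 ^ m - 1 ↔ 4 * n ∣ m) ∧ 4 * n ∣ r - 1 ∧ s ^ r = 1 ∧
      ∀ e, ¬ r ∣ e → ∀ l ∈ LL S, ∃ a ∈ LL S, ∃ b ∈ LL S, l = (a * s ^ e * a⁻¹) * (b * s ^ e * b⁻¹) := by
  have h := LL_iso S hk hF
  have hc : (2 ^ k) ^ 2 ∣ Nat.card ↥(LJ (cc S).X) := by
    rw [← hF, ← card_X8 S]
    exact Subgroup.card_dvd_of_le le_sup_left
  rw [LJ_eq] at h hc
  obtain ⟨n, r, s, h1, h2, h3, h4, h5, h6⟩ := sz_cover h hc
  refine ⟨n, r, s, s.2, h1, h2, h3, h4, congrArg Subtype.val h5, fun e he l hl => ?_⟩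
  obtain ⟨a, b, hab⟩ := h6 e he ⟨l, hl⟩
  exact ⟨a, a.2, b, b.2, congrArg Subtype.val hab⟩

end Full

section Main

open Cfsg.Agent.KFacts.TwF4 Cfsg.Agent.H84.GaussTwF4
open Cfsg.Agent.KFacts.TwF4.Inst Cfsg.Agent.ChevalleyStructure.TwF4.TwistedFix
open Cfsg.Lie Cfsg.Agent.H84.TwF4Cover

/-- **Powers.** -/
theorem ss {K : Type*} [Field K] [Fintype K] {m : ℕ} (hm : 1 ≤ m) (hK : Fintype.card K = 2 ^ (2 * m + 1)) {e : ℕ}
    (he0 : 0 < e) (he : e < 2 ^ (2 * m + 1) - 1) (hr : ∀ r, r.Prime → 4 * (2 * m + 1) < r → ¬ r ∣ e) :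
    SS 2 e ↥(twistedF4 K (2 ^ m)) := by
  have hchar := Cfsg.Agent.ChevalleyStructure.TwF4.Twisted.charP_two hK
  obtain ⟨φ, hφ⟩ := exists_rln hK
  have hfin : Finite (GL chevF4.Idx K) := inferInstance
  have hcard : Nat.card Kˣ = 2 ^ (2 * m + 1) - 1 := by rw [Nat.card_units, Nat.card_eq_fintype_card, hK]
  obtain ⟨n, r, s, hs, hn, hrp, h1, h2, hsr, hcov⟩ := LL_cover (full hK hφ) (k := 2 * m + 1) (by omega)
    (by rw [Nat.card_eq_fintype_card, hK])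
  obtain ⟨d, hd⟩ := IsCyclic.exists_ofOrder_eq_natCard (α := Kˣ)
  rw [hcard] at hd
  have hr1 := hrp.one_lt
  have hrn : 4 * n ≤ r - 1 := Nat.le_of_dvd (by omega) h2
  have hre : ¬ r ∣ e := hr r hrp (by omega)
  have hrq : ¬ r ∣ 2 ^ (2 * m + 1) - 1 := by
    intro h
    have := Nat.le_of_dvd (by omega) ((h1 _).1 h)
    omega
  have hdr : (d ^ e) ^ r ≠ 1 := by
    intro h
    rw [← pow_mul] at h
    have h3 := orderOf_dvd_of_pow_eq_one h
    rw [hd] at h3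
    have h4 : (2 ^ (2 * m + 1) - 1).Coprime r := ((Nat.Prime.coprime_iff_not_dvd hrp).2 hrq).symm
    have h5 := h4.dvd_of_dvd_mul_right h3
    have := Nat.le_of_dvd he0 h5
    omega
  have hc : Commute s ((full hK hφ).h 1 d) := (h_comm_LL d hs).symm
  have hte : (s * (full hK hφ).h 1 d) ^ e = s ^ e * (full hK hφ).h 1 (d ^ e) := by
    rw [hc.mul_pow, h_pow']
  refine SS.of_cover (t := s * (full hK hφ).h 1 d) ?_ fun g hg => ?_
  · have h1 : (s * (full hK hφ).h 1 d) ^ (r * (2 ^ (2 * m + 1) - 1)) = 1 := by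
      rw [hc.mul_pow, pow_mul, hsr, one_pow, one_mul, h_pow', mul_comm, pow_mul, ← hcard, pow_card_eq_one', one_pow,
        (full hK hφ).h_one]
    have h3 : Odd (orderOf (s * (full hK hφ).h 1 d)) := by
      refine Odd.of_dvd_nat ?_ (orderOf_dvd_of_pow_eq_one h1)
      refine Odd.mul (hrp.odd_of_ne_two (by omega)) ?_
      exact Nat.Even.sub_odd Nat.one_le_two_pow ((Nat.even_pow' (by omega)).mpr even_two) odd_one
    exact Nat.coprime_two_right.2 h3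
  · rw [hte]
    refine cover (pow_mem hs e) (n := r) ?_ (hcov e hre) hdr hg
    rw [← pow_mul, mul_comm, pow_mul, hsr, one_pow]

theorem card_le {K : Type*} [Field K] [Fintype K] {m : ℕ} (hK : Fintype.card K = 2 ^ (2 * m + 1)) :
    Nat.card ↥(twistedF4 K (2 ^ m)) ≤ (2 ^ (2 * m + 1)) ^ 28 := by
  rw [Cfsg.Agent.S1068.result hK]
  obtain ⟨q, hq⟩ : ∃ q, q = 2 ^ (2 * m + 1) := ⟨_, rfl⟩
  have hq2 : 2 ≤ q := by rw [hq]; exact Nat.le_self_pow (by omega) 2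
  rw [← hq]
  have h3 : q ^ 3 + 1 ≤ q ^ 4 := by
    have : 2 * q ^ 3 ≤ q * q ^ 3 := Nat.mul_le_mul_right _ hq2
    have h : 1 ≤ q ^ 3 := Nat.one_le_pow _ _ (by omega)
    rw [pow_succ' q 3]
    omega
  have h6 : q ^ 6 + 1 ≤ q ^ 7 := by
    have : 2 * q ^ 6 ≤ q * q ^ 6 := Nat.mul_le_mul_right _ hq2
    have h : 1 ≤ q ^ 6 := Nat.one_le_pow _ _ (by omega)
    rw [pow_succ' q 6]
    omega
  calc q ^ 12 * (q - 1) * (q ^ 3 + 1) * (q ^ 4 - 1) * (q ^ 6 + 1) ≤ q ^ 12 * q * q ^ 4 * q ^ 4 * q ^ 7 := by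
        gcongr
        · exact Nat.sub_le _ _
        · exact Nat.sub_le _ _
    _ = q ^ 28 := by ring

/-- **The row `²F₄(q)`.** -/
theorem kl_iso2F4 {G : Type*} [Group G] [Finite G] (h : Cfsg.Lie.Iso2F4 G) (k l : ℕ) (hk : 2 ≤ k) (hl : 2 ≤ l)
    (hg : ¬ k.Coprime l) (hbig : (max k l) ^ (8 * (max k l) ^ 2) ≤ Nat.card G) : Cfsg.Agent.H134.War.KL G k l := by
  obtain ⟨K, _, _, m, hm, hK, ⟨f⟩⟩ := h
  rw [Nat.card_congr f.toEquiv] at hbig
  have hb := hbig.trans (card_le hK)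
  have hm2 : 2 ≤ max k l := le_trans hk (le_max_left _ _)
  have h2 := ee_le (p := 2) (by omega : 1 ≤ k) hg
  refine (SS.congr f.symm (ss hm hK (e := ee 2 k l) (ee_pos 2 hk hl) ?_ ?_)).kl'
  · have hq8 : 2 ^ 3 ≤ 2 ^ (2 * m + 1) := Nat.pow_le_pow_right (by norm_num) (by omega)
    by_cases h4 : max k l ≤ 3
    · have : (max k l) ^ 2 ≤ 3 ^ 2 := Nat.pow_le_pow_left h4 2
      omega
    · have h1 := num (c := 28) hm2 (by nlinarith [Nat.pow_le_pow_left (by omega : 4 ≤ max k l) 2]) hb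
      omega
  · intro r hr hrm hre
    have h3 : r ∣ Nat.lcm k l := hre.trans (Nat.ordCompl_dvd _ _)
    have h4 : r ≤ max k l := by
      have h5 : r ∣ k * l := h3.trans (Nat.lcm_dvd_mul k l)
      rcases hr.dvd_mul.1 h5 with h6 | h6
      · exact (Nat.le_of_dvd (by omega) h6).trans (le_max_left _ _)
      · exact (Nat.le_of_dvd (by omega) h6).trans (le_max_right _ _)
    have h5 : 2 ^ (8 * (max k l) ^ 2) ≤ 2 ^ ((2 * m + 1) * 28) := by
      rw [pow_mul]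
      rw [pow_mul 2 (2 * m + 1)]
      refine le_trans ?_ hb
      rw [← pow_mul]
      exact Nat.pow_le_pow_left hm2 _
    have h6 := (Nat.pow_le_pow_iff_right (by norm_num : 1 < 2)).1 h5
    have h7 : (8 * m + 5) ^ 2 ≤ (max k l) ^ 2 := Nat.pow_le_pow_left (by omega) 2
    nlinarith

end Main

end Cfsg.Agent.H874.War.TwF4
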